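import Groth.Prelude.Def_CurvBase
import Mathlib.RingTheory.Etale.Kaehler
import Mathlib.RingTheory.Etale.Field
import Mathlib.RingTheory.Unramified.LocalRing
import Mathlib.RingTheory.Smooth.StandardSmoothCotangent
import Mathlib.RingTheory.RingHom.StandardSmooth
import Mathlib.FieldTheory.SeparableClosure
import Mathlib.AlgebraicGeometry.Morphisms.Smooth
import Mathlib.AlgebraicGeometry.ResidueField
import Groth.Agent.L21.Smooth.Scheme
import Mathlib.RingTheory.KrullDimension.Field
import Mathlib.RingTheory.Jacobson.Ring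

/-!
Ramified points of morphisms of smooth curves have separable residue fields.
-/

set_option autoImplicit false
universe u

open CategoryTheory AlgebraicGeometry IsLocalRing KaehlerDifferential

noncomputable section

namespace Groth.L21.Residue

/-- If `Ω[B/k]` is cyclic and the residue extension of `A → B` is separable, then either `A → B` is
formally unramified or the residue field of `B` is separable over `k`. -/
theorem formallyUnramified_or_isSeparable (k A B : Type u) [Field k] [CommRing A] [IsLocalRing A]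
    [CommRing B] [IsLocalRing B] [Algebra k A] [Algebra k B] [Algebra A B] [IsScalarTower k A B]
    [IsLocalHom (algebraMap A B)] [Algebra.EssFiniteType k A] (g : Ω[B⁄k])
    (hg : Submodule.span B {g} = ⊤)
    (hsep : Algebra.IsSeparable (ResidueField A) (ResidueField B)) :
    Algebra.FormallyUnramified A B ∨ Algebra.IsSeparable k (ResidueField B) := by
  by_cases hΩ : Subsingleton (Ω[ResidueField A⁄k])
  · right
    haveI : Algebra.FormallyUnramified k (ResidueField A) := ⟨hΩ⟩
    haveI : Algebra.EssFiniteType k (ResidueField A) := Algebra.EssFiniteType.comp k A (ResidueField A)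
    haveI := Algebra.FormallyUnramified.isSeparable k (ResidueField A)
    exact Algebra.IsSeparable.trans k (ResidueField A) (ResidueField B)
  left
  haveI := hsep
  haveI : Algebra.FormallyEtale (ResidueField A) (ResidueField B) :=
    Algebra.FormallyEtale.of_isSeparable _ _
  obtain ⟨c, hc⟩ : ∃ c : A, map k k (ResidueField A) (ResidueField B) (D k _ (residue A c)) ≠ 0 := by
    by_contra hall
    push Not at hall
    apply hΩ
    have h0 : ∀ ω : Ω[ResidueField A⁄k], ω = 0 := by
      intro ω
      have hω : ω ∈ Submodule.span (ResidueField A) (Set.range (D k (ResidueField A))) :=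
        span_range_derivation k (ResidueField A) ▸ Submodule.mem_top
      have h1 : map k k (ResidueField A) (ResidueField B) ω = 0 := by
        induction hω using Submodule.span_induction with
        | mem x hx =>
          obtain ⟨a, rfl⟩ := hx
          obtain ⟨c, rfl⟩ := residue_surjective a
          exact hall c
        | zero => simp
        | add x y _ _ hx hy => simp [hx, hy]
        | smul r x _ hx => simp [hx]
      have h2 : (1 : ResidueField B) ⊗ₜ[ResidueField A] ω = 0 := by
        apply (tensorKaehlerEquivOfFormallyEtale k (ResidueField A) (ResidueField B)).injective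
        rw [map_zero, tensorKaehlerEquivOfFormallyEtale_apply, mapBaseChange_tmul, one_smul, h1]
      exact Module.FaithfullyFlat.tensorProduct_mk_injective (A := ResidueField A) (B := ResidueField B) _
        (h2.trans (TensorProduct.tmul_zero _ 1).symm)
    exact ⟨fun a b => (h0 a).trans (h0 b).symm⟩
  obtain ⟨r, hr⟩ := Submodule.mem_span_singleton.mp (hg ▸ Submodule.mem_top : D k B (algebraMap A B c) ∈ Submodule.span B {g})
  have hru : IsUnit r := by
    by_contra hu
    apply hc
    rw [map_D]
    have h2 : map k k B (ResidueField B) (D k B (algebraMap A B c)) = 0 := by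
      rw [← hr, map_smul]
      show (algebraMap B (ResidueField B) r) • map k k B (ResidueField B) g = 0
      rw [show algebraMap B (ResidueField B) r = 0 from (residue_eq_zero_iff r).mpr hu, zero_smul]
    rw [map_D] at h2
    exact h2
  have hcyc : ∀ m : Ω[B⁄k], m ∈ Submodule.span B {D k B (algebraMap A B c)} := by
    intro m
    rw [← hr, Submodule.span_singleton_smul_eq hru, hg]
    trivial
  refine ⟨⟨fun a b => ?_⟩⟩
  suffices h0 : ∀ ω : Ω[B⁄A], ω = 0 from (h0 a).trans (h0 b).symm
  intro ω
  obtain ⟨m, rfl⟩ := map_surjective k A B ω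
  obtain ⟨s, rfl⟩ := Submodule.mem_span_singleton.mp (hcyc m)
  rw [map_smul, map_D]
  simp

/-- The differentials of a local ring of a smooth curve are cyclic. -/
theorem exists_span_kaehler_stalk (k : Type u) [Field k] (X : Scheme.{u})
    [X.Over (Spec (CommRingCat.of k))] [SmoothOfRelativeDimension 1 (X ↘ Spec (CommRingCat.of k))] (x : X) :
    letI := Curv2.stalkAlgebra k X x
    Algebra.EssFiniteType k (X.presheaf.stalk x) ∧
      ∃ g : Ω[X.presheaf.stalk x⁄k], Submodule.span (X.presheaf.stalk x) {g} = ⊤ := by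
  letI := Curv2.stalkAlgebra k X x
  set p := X ↘ Spec (CommRingCat.of k)
  obtain ⟨U, hU, V, hV, hx, e, h⟩ :=
    SmoothOfRelativeDimension.exists_isStandardSmoothOfRelativeDimension (n := 1) (f := p) x
  obtain rfl : U = ⊤ := by
    ext y
    simp only [TopologicalSpace.Opens.coe_top, Set.mem_univ, iff_true]
    obtain rfl : y = p x := Subsingleton.elim (α := PrimeSpectrum k) _ _
    exact e hx
  have h' : ((p.appLE ⊤ V e).hom.comp (Scheme.ΓSpecIso (CommRingCat.of k)).inv.hom).IsStandardSmoothOfRelativeDimension 1 :=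
    RingHom.isStandardSmoothOfRelativeDimension_respectsIso.2 _
      (Scheme.ΓSpecIso (CommRingCat.of k)).symm.commRingCatIsoToRingEquiv h
  letI : Algebra k Γ(X, V) := ((p.appLE ⊤ V e).hom.comp (Scheme.ΓSpecIso (CommRingCat.of k)).inv.hom).toAlgebra
  haveI : Algebra.IsStandardSmoothOfRelativeDimension 1 k Γ(X, V) := h'
  haveI : Algebra.IsStandardSmooth k Γ(X, V) :=
    Algebra.IsStandardSmoothOfRelativeDimension.isStandardSmooth 1
  letI := X.presheaf.algebra_section_stalk ⟨x, hx⟩
  haveI := hV.isLocalization_stalk ⟨x, hx⟩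
  let M := (hV.primeIdealOf ⟨x, hx⟩).asIdeal.primeCompl
  haveI : IsScalarTower k Γ(X, V) (X.presheaf.stalk x) := by
    refine IsScalarTower.of_algebraMap_eq fun a => ?_
    show X.presheaf.germ ⊤ x trivial (p.appTop ((Scheme.ΓSpecIso (CommRingCat.of k)).inv a)) =
      X.presheaf.germ V x hx (p.appLE ⊤ V e ((Scheme.ΓSpecIso (CommRingCat.of k)).inv a))
    exact (X.presheaf.germ_res_apply (homOfLE (le_top : V ≤ ⊤)) x hx _).symm
  haveI : Algebra.EssFiniteType Γ(X, V) (X.presheaf.stalk x) := Algebra.EssFiniteType.of_isLocalization _ M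
  refine ⟨Algebra.EssFiniteType.comp k Γ(X, V) _, ?_⟩
  haveI : Nonempty V := ⟨⟨x, hx⟩⟩
  haveI : Nontrivial Γ(X, V) := Scheme.component_nontrivial X V
  have hrank : Module.rank Γ(X, V) (Ω[Γ(X, V)⁄k]) = 1 := by
    simpa using Algebra.IsStandardSmoothOfRelativeDimension.rank_kaehlerDifferential (R := k) (S := Γ(X, V)) 1
  let b := Module.Free.chooseBasis Γ(X, V) (Ω[Γ(X, V)⁄k])
  have hcard : Cardinal.mk (Module.Free.ChooseBasisIndex Γ(X, V) (Ω[Γ(X, V)⁄k])) = 1 :=
    b.mk_eq_rank''.trans hrank
  obtain ⟨hsub, ⟨i⟩⟩ := Cardinal.eq_one_iff_unique.mp hcard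
  refine ⟨map k k Γ(X, V) (X.presheaf.stalk x) (b i), top_le_iff.mp ?_⟩
  rw [← span_range_map_derivation_of_isLocalization k Γ(X, V) (X.presheaf.stalk x) M, Submodule.span_le]
  rintro _ ⟨a, rfl⟩
  have ha : D k Γ(X, V) a = b.repr (D k Γ(X, V) a) i • b i := by
    conv_lhs => rw [← b.linearCombination_repr (D k Γ(X, V) a)]
    rw [show b.repr (D k Γ(X, V) a) = Finsupp.single i (b.repr (D k Γ(X, V) a) i) from
      Finsupp.ext fun j => by rw [Subsingleton.elim j i, Finsupp.single_eq_same],
      Finsupp.linearCombination_single, Finsupp.single_eq_same]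
  simp only [Function.comp_apply, SetLike.mem_coe]
  rw [ha, map_smul, ← IsScalarTower.algebraMap_smul (X.presheaf.stalk x)]
  exact Submodule.smul_mem _ _ (Submodule.mem_span_singleton_self _)

theorem isSeparable_residueField_of_ramified (k : Type u) [Field k]
    (X Y : Scheme.{u}) [X.Over (Spec (CommRingCat.of k))] [Y.Over (Spec (CommRingCat.of k))]
    [SmoothOfRelativeDimension 1 (X ↘ Spec (CommRingCat.of k))]
    [SmoothOfRelativeDimension 1 (Y ↘ Spec (CommRingCat.of k))]
    (f : X ⟶ Y) (hf : f ≫ (Y ↘ Spec (CommRingCat.of k)) = X ↘ Spec (CommRingCat.of k))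
    (x : X) (hram : (maximalIdeal (Y.presheaf.stalk (f.base x))).map (f.stalkMap x).hom ≠
      maximalIdeal (X.presheaf.stalk x))
    (hsep : @Algebra.IsSeparable (Y.residueField (f.base x)) (X.residueField x) _ _
      (f.residueFieldMap x).hom.toAlgebra) :
    letI := Curv2.resAlgebra k X x
    Algebra.IsSeparable k (X.residueField x) := by
  letI := Curv2.stalkAlgebra k X x
  letI := Curv2.stalkAlgebra k Y (f.base x)
  letI : Algebra (Y.presheaf.stalk (f.base x)) (X.presheaf.stalk x) := (f.stalkMap x).hom.toAlgebra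
  haveI : IsLocalHom (algebraMap (Y.presheaf.stalk (f.base x)) (X.presheaf.stalk x)) :=
    inferInstanceAs <| IsLocalHom (f.stalkMap x).hom
  haveI : IsScalarTower k (Y.presheaf.stalk (f.base x)) (X.presheaf.stalk x) := by
    refine IsScalarTower.of_algebraMap_eq fun a => ?_
    show X.presheaf.germ ⊤ x trivial ((X ↘ Spec (CommRingCat.of k)).appTop ((Scheme.ΓSpecIso (CommRingCat.of k)).inv a)) =
      f.stalkMap x (Y.presheaf.germ ⊤ (f.base x) trivial
        ((Y ↘ Spec (CommRingCat.of k)).appTop ((Scheme.ΓSpecIso (CommRingCat.of k)).inv a)))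
    rw [Scheme.Hom.germ_stalkMap_apply, ← hf]
    rfl
  obtain ⟨hessY, -⟩ := exists_span_kaehler_stalk k Y (f.base x)
  obtain ⟨hessX, g, hg⟩ := exists_span_kaehler_stalk k X x
  haveI := hessY
  haveI := hessX
  haveI : Algebra.EssFiniteType (Y.presheaf.stalk (f.base x)) (X.presheaf.stalk x) :=
    Algebra.EssFiniteType.of_comp k _ _
  have hsep' : Algebra.IsSeparable (ResidueField (Y.presheaf.stalk (f.base x))) (ResidueField (X.presheaf.stalk x)) :=
    letI := (f.residueFieldMap x).hom.toAlgebra
    Algebra.IsSeparable.of_equiv_equiv (A₁ := Y.residueField (f.base x)) (B₁ := X.residueField x)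
      (RingEquiv.refl _) (RingEquiv.refl _) (by ext z; obtain ⟨z, rfl⟩ := residue_surjective z; rfl)
  rcases formallyUnramified_or_isSeparable k (Y.presheaf.stalk (f.base x)) (X.presheaf.stalk x) g hg
    hsep' with h | h
  · exact absurd Algebra.FormallyUnramified.map_maximalIdeal hram
  · exact h

theorem maximalIdeal_stalk_ne_bot (k : Type u) [Field k] (X : Scheme.{u})
    [X.Over (Spec (CommRingCat.of k))] [SmoothOfRelativeDimension 1 (X ↘ Spec (CommRingCat.of k))] (x : X)
    (hxc : IsClosed ({x} : Set X)) : maximalIdeal (X.presheaf.stalk x) ≠ ⊥ := by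
  set p := X ↘ Spec (CommRingCat.of k)
  obtain ⟨U, hU, V, hV, hx, e, h⟩ :=
    SmoothOfRelativeDimension.exists_isStandardSmoothOfRelativeDimension (n := 1) (f := p) x
  obtain rfl : U = ⊤ := by
    ext y
    simp only [TopologicalSpace.Opens.coe_top, Set.mem_univ, iff_true]
    obtain rfl : y = p x := Subsingleton.elim (α := PrimeSpectrum k) _ _
    exact e hx
  have h' : ((p.appLE ⊤ V e).hom.comp (Scheme.ΓSpecIso (CommRingCat.of k)).inv.hom).IsStandardSmoothOfRelativeDimension 1 :=
    RingHom.isStandardSmoothOfRelativeDimension_respectsIso.2 _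
      (Scheme.ΓSpecIso (CommRingCat.of k)).symm.commRingCatIsoToRingEquiv h
  obtain ⟨g, -, hg⟩ := h'.exists_etale_mvPolynomial
  letI := g.toAlgebra
  haveI : Algebra.Etale (MvPolynomial (Fin 1) k) Γ(X, V) := hg
  set q := (hV.primeIdealOf ⟨x, hx⟩).asIdeal with hq
  haveI : q.IsMaximal := by
    rw [← PrimeSpectrum.isClosed_singleton_iff_isMaximal]
    have hpre : ({hV.primeIdealOf ⟨x, hx⟩} : Set (Spec Γ(X, V))) = hV.fromSpec ⁻¹' {x} := by
      ext z
      simp only [Set.mem_singleton_iff, Set.mem_preimage]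
      exact ⟨fun hz => hz ▸ hV.fromSpec_primeIdealOf ⟨x, hx⟩, fun hz =>
        hV.fromSpec.isOpenEmbedding.injective (hz.trans (hV.fromSpec_primeIdealOf ⟨x, hx⟩).symm)⟩
    exact hpre ▸ hxc.preimage hV.fromSpec.continuous
  haveI : IsJacobsonRing (MvPolynomial (Fin 1) k) := inferInstance
  haveI hmax : (q.under (MvPolynomial (Fin 1) k)).IsMaximal := by
    letI : Field (Γ(X, V) ⧸ q) := Ideal.Quotient.field q
    haveI : Algebra.FiniteType (MvPolynomial (Fin 1) k) (Γ(X, V) ⧸ q) :=
      Algebra.FiniteType.of_surjective (Ideal.Quotient.mkₐ (MvPolynomial (Fin 1) k) q) Ideal.Quotient.mk_surjective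
    haveI : Module.Finite (MvPolynomial (Fin 1) k) (Γ(X, V) ⧸ q) :=
      finite_of_finite_type_of_isJacobsonRing _ _
    have hm := Ideal.isMaximal_comap_of_isIntegral_of_isMaximal (R := MvPolynomial (Fin 1) k)
      (⊥ : Ideal (Γ(X, V) ⧸ q))
    rw [IsScalarTower.algebraMap_eq (MvPolynomial (Fin 1) k) Γ(X, V) (Γ(X, V) ⧸ q), ← Ideal.comap_comap,
      ← RingHom.ker_eq_comap_bot, Ideal.Quotient.algebraMap_eq, Ideal.mk_ker] at hm
    exact hm
  have hdim := (Groth.L21.Smooth.regular_localization_of_etale (MvPolynomial (Fin 1) k) Γ(X, V) q).2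
  letI := X.presheaf.algebra_section_stalk ⟨x, hx⟩
  haveI := hV.isLocalization_stalk ⟨x, hx⟩
  intro hbot
  have hf : IsField (X.presheaf.stalk x) := isField_iff_maximalIdeal_eq.mpr hbot
  letI := hf.toField
  rw [ringKrullDim_eq_of_ringEquiv (IsLocalization.algEquiv q.primeCompl (Localization.AtPrime q)
    (X.presheaf.stalk x)).toRingEquiv, ringKrullDim_eq_zero_of_field,
    IsLocalization.AtPrime.ringKrullDim_eq_height (q.under (MvPolynomial (Fin 1) k))] at hdim
  have h0 : (q.under (MvPolynomial (Fin 1) k)).height = 0 := by exact_mod_cast hdim.symm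
  rw [Ideal.height_eq_zero_iff, IsDomain.minimalPrimes_eq_singleton_bot, Set.mem_singleton_iff] at h0
  refine Ring.ne_bot_of_isMaximal_of_not_isField hmax (fun hfld => ?_) h0
  obtain ⟨w, hw⟩ := hfld.mul_inv_cancel (MvPolynomial.X_ne_zero (R := k) (0 : Fin 1))
  simpa using congrArg (MvPolynomial.eval (0 : Fin 1 → k)) hw

end Groth.L21.Residue
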