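import Groth.Agent.L21.Residue.Separable
import Mathlib.RingTheory.Smooth.Basic
import Mathlib.RingTheory.Etale.Basic
import Mathlib.RingTheory.Nakayama
import Mathlib.RingTheory.Localization.Submodule
import Mathlib.RingTheory.FiniteType

/-!
Differentials of uniformizers of smooth curves at separable points.
-/

set_option autoImplicit false
set_option backward.isDefEq.respectTransparency false
set_option linter.style.haveILetI false
universe u

open CategoryTheory AlgebraicGeometry IsLocalRing KaehlerDifferential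
open scoped TensorProduct

noncomputable section

namespace Groth.L21.Residue

/-- A formally smooth local algebra with free differentials of rank one and separable residue field. -/
theorem bijective_smul_D_of_irreducible (k O : Type u) [Field k] [CommRing O] [IsLocalRing O] [IsNoetherianRing O]
    [Algebra k O] [Algebra.FormallySmooth k O] (b : Module.Basis Unit O (Ω[O⁄k]))
    (hsep : Algebra.IsSeparable k (ResidueField O)) (s : O) (hs : Irreducible s) :
    Function.Bijective (fun a : O => a • D k O s) := by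
  haveI := hsep
  haveI : Algebra.FormallyEtale k (ResidueField O) := Algebra.FormallyEtale.of_isSeparable k _
  have hπ : Function.Surjective (algebraMap O (ResidueField O)) := residue_surjective
  have hinj : Function.Injective (kerCotangentToTensor k O (ResidueField O)) :=
    (Algebra.FormallySmooth.kerCotangentToTensor_injective_iff hπ).2 inferInstance
  let c : ResidueField O ⊗[O] Ω[O⁄k] → ResidueField O := fun z => (b.baseChange (ResidueField O)).repr z ()
  let e : Ω[O⁄k] →ₗ[O] O := b.coord ()
  have hc : ∀ x, c ((1 : ResidueField O) ⊗ₜ D k O x) = residue O (e (D k O x)) := fun x => by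
    simp [c, e, Algebra.smul_def]
  have hc0 : ∀ z, c z = 0 → z = 0 := fun z hz => by
    refine (b.baseChange (ResidueField O)).repr.map_eq_zero_iff.1 ?_
    ext
    exact hz
  have hker : RingHom.ker (algebraMap O (ResidueField O)) = maximalIdeal O := IsLocalRing.ker_residue
  have hcot : ∀ x ∈ maximalIdeal O, residue O (e (D k O x)) = 0 → x ∈ maximalIdeal O ^ 2 := fun x hx h0 => by
    have hx' : x ∈ RingHom.ker (algebraMap O (ResidueField O)) := by rw [hker]; exact hx
    have h1 : kerCotangentToTensor k O (ResidueField O) (Ideal.toCotangent _ ⟨x, hx'⟩) = 0 := by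
      rw [kerCotangentToTensor_toCotangent]
      exact hc0 _ ((hc x).trans h0)
    rw [← map_zero (kerCotangentToTensor k O (ResidueField O))] at h1
    have h2 := (Ideal.toCotangent_eq_zero _ _).1 (hinj h1)
    have h3 : (RingHom.ker (algebraMap O (ResidueField O))) ^ 2 = maximalIdeal O ^ 2 := by rw [hker]
    exact h3 ▸ h2
  obtain ⟨t, ht, htu⟩ : ∃ t ∈ maximalIdeal O, IsUnit (e (D k O t)) := by
    by_contra hall
    push Not at hall
    have h1 : ∀ z : ResidueField O ⊗[O] Ω[O⁄k], z = 0 := fun z => by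
      obtain ⟨y, rfl⟩ := (exact_kerCotangentToTensor_mapBaseChange k O (ResidueField O) hπ z).1 (Subsingleton.elim _ _)
      obtain ⟨⟨x, hx⟩, rfl⟩ := Ideal.toCotangent_surjective _ y
      rw [kerCotangentToTensor_toCotangent]
      refine hc0 _ ((hc x).trans ?_)
      exact (residue_eq_zero_iff _).2 (hall x (hker ▸ hx))
    exact (b.baseChange (ResidueField O)).ne_zero () (h1 _)
  have hle : maximalIdeal O ≤ Ideal.span {t} := by
    refine Submodule.le_of_le_smul_of_le_jacobson_bot (IsNoetherian.noetherian _)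
      (maximalIdeal_le_jacobson ⊥) fun x hx => ?_
    obtain ⟨u, hu⟩ := htu
    let a : O := e (D k O x) * (↑u⁻¹ : O)
    have h1 : x - a * t ∈ maximalIdeal O ^ 2 := by
      refine hcot _ (Ideal.sub_mem _ hx (Ideal.mul_mem_left _ _ ht)) ?_
      rw [map_sub, Derivation.leibniz, map_sub, map_add, map_smul, map_smul]
      simp only [smul_eq_mul, map_sub, map_add, map_mul, (residue_eq_zero_iff t).2 ht, zero_mul, add_zero, ← hu, a]
      rw [mul_assoc, ← map_mul, Units.inv_mul, map_one, mul_one, sub_self]
    rw [pow_two, ← smul_eq_mul] at h1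
    rw [show x = a * t + (x - a * t) by ring]
    exact Submodule.add_mem _ (Submodule.mem_sup_left (Ideal.mul_mem_left _ _ (Ideal.subset_span rfl)))
      (Submodule.mem_sup_right h1)
  obtain ⟨v, hv⟩ := Ideal.mem_span_singleton'.1 (hle ((mem_maximalIdeal s).2 hs.not_isUnit))
  have hvu : IsUnit v := by
    rcases hs.isUnit_or_isUnit hv.symm with h | h
    · exact h
    · exact absurd h ((mem_maximalIdeal t).1 ht)
  have hsu : IsUnit (e (D k O s)) := by
    rw [← notMem_maximalIdeal, ← residue_eq_zero_iff, ← hv, Derivation.leibniz, map_add, map_smul, map_smul]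
    simp only [smul_eq_mul, map_add, map_mul,
      (residue_eq_zero_iff t).2 ht, zero_mul, add_zero, ← ne_eq]
    exact mul_ne_zero ((residue_ne_zero_iff_isUnit v).2 hvu) ((residue_ne_zero_iff_isUnit _).2 htu)
  obtain ⟨w, hw⟩ := hsu
  have key : ∀ a : O, e (a • D k O s) = a * w := fun a => by rw [map_smul, hw, smul_eq_mul]
  refine ⟨fun a a' h => ?_, fun ω => ⟨e ω * (↑w⁻¹ : O), ?_⟩⟩
  · have h' := key a
    rw [show a • D k O s = a' • D k O s from h, key a'] at h'
    exact (w.isUnit.mul_left_inj).1 h'.symm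
  · refine b.repr.injective ?_
    ext
    refine (key _).trans ?_
    rw [mul_assoc, Units.inv_mul, mul_one]
    rfl

theorem bijective_smul_D_stalk (k : Type u) [Field k] (X : Scheme.{u}) [X.Over (Spec (CommRingCat.of k))] (x : X)
    (U : X.Opens) (hxU : x ∈ U) [SmoothOfRelativeDimension 1 (U.ι ≫ (X ↘ Spec (CommRingCat.of k)))]
    (hsep : letI := Curv2.resAlgebra k X x; Algebra.IsSeparable k (X.residueField x))
    (s : X.presheaf.stalk x) (hs : Irreducible s) :
    letI := Curv2.stalkAlgebra k X x
    Function.Bijective (fun a : X.presheaf.stalk x => a • D k (X.presheaf.stalk x) s) := by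
  letI := Curv2.stalkAlgebra k X x
  set p := X ↘ Spec (CommRingCat.of k)
  obtain ⟨U₀, hU₀, V, hV, hx, e, h⟩ :=
    SmoothOfRelativeDimension.exists_isStandardSmoothOfRelativeDimension (n := 1) (f := U.ι ≫ p) (⟨x, hxU⟩ : U)
  obtain rfl : U₀ = ⊤ := by
    ext y
    simp only [TopologicalSpace.Opens.coe_top, Set.mem_univ, iff_true]
    obtain rfl : y = (U.ι ≫ p) ⟨x, hxU⟩ := Subsingleton.elim (α := PrimeSpectrum k) _ _
    exact e hx
  let W : X.Opens := U.ι ''ᵁ V
  have hW : IsAffineOpen W := hV.image_of_isOpenImmersion U.ι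
  have hxW : x ∈ W := ⟨⟨x, hxU⟩, hx, rfl⟩
  have h' : (p.appTop ≫ X.presheaf.map (homOfLE (le_top : W ≤ ⊤)).op).hom.IsStandardSmoothOfRelativeDimension 1 := by
    have heq : (U.ι ≫ p).appLE ⊤ V e = p.appTop ≫ X.presheaf.map (homOfLE (le_top : W ≤ ⊤)).op := by
      rw [Scheme.Hom.appLE, Scheme.Hom.comp_app, Category.assoc, Scheme.Opens.ι_app]
      exact congrArg (p.appTop ≫ ·) ((X.presheaf.map_comp _ _).symm.trans rfl)
    rwa [heq] at h
  have h'' : (((Scheme.ΓSpecIso (CommRingCat.of k)).inv ≫ p.appTop ≫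
      X.presheaf.map (homOfLE (le_top : W ≤ ⊤)).op).hom).IsStandardSmoothOfRelativeDimension 1 :=
    RingHom.isStandardSmoothOfRelativeDimension_respectsIso.2 _
      (Scheme.ΓSpecIso (CommRingCat.of k)).symm.commRingCatIsoToRingEquiv h'
  letI : Algebra k Γ(X, W) := (((Scheme.ΓSpecIso (CommRingCat.of k)).inv ≫ p.appTop ≫
    X.presheaf.map (homOfLE (le_top : W ≤ ⊤)).op).hom).toAlgebra
  haveI : Algebra.IsStandardSmoothOfRelativeDimension 1 k Γ(X, W) := h''
  haveI : Algebra.IsStandardSmooth k Γ(X, W) := Algebra.IsStandardSmoothOfRelativeDimension.isStandardSmooth 1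
  letI := X.presheaf.algebra_section_stalk (⟨x, hxW⟩ : W)
  haveI := hW.isLocalization_stalk (⟨x, hxW⟩ : W)
  let M := (hW.primeIdealOf ⟨x, hxW⟩).asIdeal.primeCompl
  haveI : IsScalarTower k Γ(X, W) (X.presheaf.stalk x) := by
    refine IsScalarTower.of_algebraMap_eq fun a => ?_
    show X.presheaf.germ ⊤ x trivial (p.appTop ((Scheme.ΓSpecIso (CommRingCat.of k)).inv a)) =
      X.presheaf.germ W x hxW (X.presheaf.map (homOfLE (le_top : W ≤ ⊤)).op (p.appTop ((Scheme.ΓSpecIso (CommRingCat.of k)).inv a)))
    exact (X.presheaf.germ_res_apply (homOfLE (le_top : W ≤ ⊤)) x hxW _).symm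
  haveI : Algebra.FiniteType k Γ(X, W) := inferInstance
  haveI : IsNoetherianRing Γ(X, W) := Algebra.FiniteType.isNoetherianRing k _
  haveI : IsNoetherianRing (X.presheaf.stalk x) := IsLocalization.isNoetherianRing M _ inferInstance
  haveI : Algebra.FormallyEtale Γ(X, W) (X.presheaf.stalk x) := Algebra.FormallyEtale.of_isLocalization M
  haveI : Algebra.FormallySmooth k (X.presheaf.stalk x) := Algebra.FormallySmooth.comp k Γ(X, W) _
  haveI : Nonempty W := ⟨⟨x, hxW⟩⟩
  haveI : Nontrivial Γ(X, W) := Scheme.component_nontrivial X W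
  have hrank : Module.rank Γ(X, W) (Ω[Γ(X, W)⁄k]) = 1 := by
    simpa using Algebra.IsStandardSmoothOfRelativeDimension.rank_kaehlerDifferential (R := k) (S := Γ(X, W)) 1
  let b := Module.Free.chooseBasis Γ(X, W) (Ω[Γ(X, W)⁄k])
  have hcard : Cardinal.mk (Module.Free.ChooseBasisIndex Γ(X, W) (Ω[Γ(X, W)⁄k])) = 1 :=
    b.mk_eq_rank''.trans hrank
  obtain ⟨hsub, ⟨i⟩⟩ := Cardinal.eq_one_iff_unique.mp hcard
  haveI : Unique (Module.Free.ChooseBasisIndex Γ(X, W) (Ω[Γ(X, W)⁄k])) := uniqueOfSubsingleton i
  let b' : Module.Basis Unit (X.presheaf.stalk x) (Ω[X.presheaf.stalk x⁄k]) :=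
    ((b.reindex (Equiv.ofUnique _ Unit)).baseChange (X.presheaf.stalk x)).map
      (KaehlerDifferential.tensorKaehlerEquivOfFormallyEtale k Γ(X, W) (X.presheaf.stalk x))
  refine bijective_smul_D_of_irreducible k _ b' ?_ s hs
  letI := Curv2.resAlgebra k X x
  haveI := hsep
  exact Algebra.IsSeparable.of_equiv_equiv (A₁ := k) (B₁ := X.residueField x) (RingEquiv.refl _) (RingEquiv.refl _)
    (by ext z; rfl)

end Groth.L21.Residue
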